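import Cfsg.Agent.Lib.Helper35.Fi23Ord.U1.Data

set_option Elab.async false

namespace Cfsg.Agent.Lib.Helper35.Fi23Ord.U1

open Cfsg.Agent.Lib.Helper35

theorem s0c0 : allBelow (fun k => fs0 (Nat.add (Nat.succ 0) k)) 4191 = true := by decide +kernel
theorem s0u0 : ∀ v, 1 ≤ v → v ≤ 4191 → fs0 v = true := slots_step fs0 0 4191 4191 (slots_zero fs0) s0c0 rfl
theorem s0c1 : allBelow (fun k => fs0 (Nat.add (Nat.succ 4191) k)) 4113 = true := by decide +kernel
theorem s0u1 : ∀ v, 1 ≤ v → v ≤ 8304 → fs0 v = true := slots_step fs0 4191 4113 8304 s0u0 s0c1 rfl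
theorem s0c2 : allBelow (fun k => fs0 (Nat.add (Nat.succ 8304) k)) 3329 = true := by decide +kernel
theorem s0u2 : ∀ v, 1 ≤ v → v ≤ 11633 → fs0 v = true := slots_step fs0 8304 3329 11633 s0u1 s0c2 rfl
theorem s0c3 : allBelow (fun k => fs0 (Nat.add (Nat.succ 11633) k)) 3397 = true := by decide +kernel
theorem s0u3 : ∀ v, 1 ≤ v → v ≤ 15030 → fs0 v = true := slots_step fs0 11633 3397 15030 s0u2 s0c3 rfl
theorem s0c4 : allBelow (fun k => fs0 (Nat.add (Nat.succ 15030) k)) 1805 = true := by decide +kernel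
theorem s0u4 : ∀ v, 1 ≤ v → v ≤ 16835 → fs0 v = true := slots_step fs0 15030 1805 16835 s0u3 s0c4 rfl
theorem s1c0 : allBelow (fun k => fs1 (Nat.add (Nat.succ 0) k)) 4105 = true := by decide +kernel
theorem s1u0 : ∀ v, 1 ≤ v → v ≤ 4105 → fs1 v = true := slots_step fs1 0 4105 4105 (slots_zero fs1) s1c0 rfl
theorem s1c1 : allBelow (fun k => fs1 (Nat.add (Nat.succ 4105) k)) 4078 = true := by decide +kernel
theorem s1u1 : ∀ v, 1 ≤ v → v ≤ 8183 → fs1 v = true := slots_step fs1 4105 4078 8183 s1u0 s1c1 rfl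
theorem s1c2 : allBelow (fun k => fs1 (Nat.add (Nat.succ 8183) k)) 3361 = true := by decide +kernel
theorem s1u2 : ∀ v, 1 ≤ v → v ≤ 11544 → fs1 v = true := slots_step fs1 8183 3361 11544 s1u1 s1c2 rfl
theorem s1c3 : allBelow (fun k => fs1 (Nat.add (Nat.succ 11544) k)) 3340 = true := by decide +kernel
theorem s1u3 : ∀ v, 1 ≤ v → v ≤ 14884 → fs1 v = true := slots_step fs1 11544 3340 14884 s1u2 s1c3 rfl
theorem s1c4 : allBelow (fun k => fs1 (Nat.add (Nat.succ 14884) k)) 1951 = true := by decide +kernel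
theorem s1u4 : ∀ v, 1 ≤ v → v ≤ 16835 → fs1 v = true := slots_step fs1 14884 1951 16835 s1u3 s1c4 rfl
theorem s2c0 : allBelow (fun k => fs2 (Nat.add (Nat.succ 0) k)) 4002 = true := by decide +kernel
theorem s2u0 : ∀ v, 1 ≤ v → v ≤ 4002 → fs2 v = true := slots_step fs2 0 4002 4002 (slots_zero fs2) s2c0 rfl
theorem s2c1 : allBelow (fun k => fs2 (Nat.add (Nat.succ 4002) k)) 4103 = true := by decide +kernel
theorem s2u1 : ∀ v, 1 ≤ v → v ≤ 8105 → fs2 v = true := slots_step fs2 4002 4103 8105 s2u0 s2c1 rfl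
theorem s2c2 : allBelow (fun k => fs2 (Nat.add (Nat.succ 8105) k)) 3351 = true := by decide +kernel
theorem s2u2 : ∀ v, 1 ≤ v → v ≤ 11456 → fs2 v = true := slots_step fs2 8105 3351 11456 s2u1 s2c2 rfl
theorem s2c3 : allBelow (fun k => fs2 (Nat.add (Nat.succ 11456) k)) 3431 = true := by decide +kernel
theorem s2u3 : ∀ v, 1 ≤ v → v ≤ 14887 → fs2 v = true := slots_step fs2 11456 3431 14887 s2u2 s2c3 rfl
theorem s2c4 : allBelow (fun k => fs2 (Nat.add (Nat.succ 14887) k)) 1948 = true := by decide +kernel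
theorem s2u4 : ∀ v, 1 ≤ v → v ≤ 16835 → fs2 v = true := slots_step fs2 14887 1948 16835 s2u3 s2c4 rfl
theorem s3c0 : allBelow (fun k => fs3 (Nat.add (Nat.succ 0) k)) 3888 = true := by decide +kernel
theorem s3u0 : ∀ v, 1 ≤ v → v ≤ 3888 → fs3 v = true := slots_step fs3 0 3888 3888 (slots_zero fs3) s3c0 rfl
theorem s3c1 : allBelow (fun k => fs3 (Nat.add (Nat.succ 3888) k)) 3973 = true := by decide +kernel
theorem s3u1 : ∀ v, 1 ≤ v → v ≤ 7861 → fs3 v = true := slots_step fs3 3888 3973 7861 s3u0 s3c1 rfl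
theorem s3c2 : allBelow (fun k => fs3 (Nat.add (Nat.succ 7861) k)) 3378 = true := by decide +kernel
theorem s3u2 : ∀ v, 1 ≤ v → v ≤ 11239 → fs3 v = true := slots_step fs3 7861 3378 11239 s3u1 s3c2 rfl
theorem s3c3 : allBelow (fun k => fs3 (Nat.add (Nat.succ 11239) k)) 3454 = true := by decide +kernel
theorem s3u3 : ∀ v, 1 ≤ v → v ≤ 14693 → fs3 v = true := slots_step fs3 11239 3454 14693 s3u2 s3c3 rfl
theorem s3c4 : allBelow (fun k => fs3 (Nat.add (Nat.succ 14693) k)) 2142 = true := by decide +kernel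
theorem s3u4 : ∀ v, 1 ≤ v → v ≤ 16835 → fs3 v = true := slots_step fs3 14693 2142 16835 s3u3 s3c4 rfl
theorem s4c0 : allBelow (fun k => fs4 (Nat.add (Nat.succ 0) k)) 3902 = true := by decide +kernel
theorem s4u0 : ∀ v, 1 ≤ v → v ≤ 3902 → fs4 v = true := slots_step fs4 0 3902 3902 (slots_zero fs4) s4c0 rfl
theorem s4c1 : allBelow (fun k => fs4 (Nat.add (Nat.succ 3902) k)) 4033 = true := by decide +kernel
theorem s4u1 : ∀ v, 1 ≤ v → v ≤ 7935 → fs4 v = true := slots_step fs4 3902 4033 7935 s4u0 s4c1 rfl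
theorem s4c2 : allBelow (fun k => fs4 (Nat.add (Nat.succ 7935) k)) 3341 = true := by decide +kernel
theorem s4u2 : ∀ v, 1 ≤ v → v ≤ 11276 → fs4 v = true := slots_step fs4 7935 3341 11276 s4u1 s4c2 rfl
theorem s4c3 : allBelow (fun k => fs4 (Nat.add (Nat.succ 11276) k)) 3642 = true := by decide +kernel
theorem s4u3 : ∀ v, 1 ≤ v → v ≤ 14918 → fs4 v = true := slots_step fs4 11276 3642 14918 s4u2 s4c3 rfl
theorem s4c4 : allBelow (fun k => fs4 (Nat.add (Nat.succ 14918) k)) 1917 = true := by decide +kernel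
theorem s4u4 : ∀ v, 1 ≤ v → v ≤ 16835 → fs4 v = true := slots_step fs4 14918 1917 16835 s4u3 s4c4 rfl
theorem s5c0 : allBelow (fun k => fs5 (Nat.add (Nat.succ 0) k)) 3957 = true := by decide +kernel
theorem s5u0 : ∀ v, 1 ≤ v → v ≤ 3957 → fs5 v = true := slots_step fs5 0 3957 3957 (slots_zero fs5) s5c0 rfl
theorem s5c1 : allBelow (fun k => fs5 (Nat.add (Nat.succ 3957) k)) 4037 = true := by decide +kernel
theorem s5u1 : ∀ v, 1 ≤ v → v ≤ 7994 → fs5 v = true := slots_step fs5 3957 4037 7994 s5u0 s5c1 rfl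
theorem s5c2 : allBelow (fun k => fs5 (Nat.add (Nat.succ 7994) k)) 3315 = true := by decide +kernel
theorem s5u2 : ∀ v, 1 ≤ v → v ≤ 11309 → fs5 v = true := slots_step fs5 7994 3315 11309 s5u1 s5c2 rfl
theorem s5c3 : allBelow (fun k => fs5 (Nat.add (Nat.succ 11309) k)) 3434 = true := by decide +kernel
theorem s5u3 : ∀ v, 1 ≤ v → v ≤ 14743 → fs5 v = true := slots_step fs5 11309 3434 14743 s5u2 s5c3 rfl
theorem s5c4 : allBelow (fun k => fs5 (Nat.add (Nat.succ 14743) k)) 2092 = true := by decide +kernel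
theorem s5u4 : ∀ v, 1 ≤ v → v ≤ 16835 → fs5 v = true := slots_step fs5 14743 2092 16835 s5u3 s5c4 rfl
theorem s6c0 : allBelow (fun k => fs6 (Nat.add (Nat.succ 0) k)) 4126 = true := by decide +kernel
theorem s6u0 : ∀ v, 1 ≤ v → v ≤ 4126 → fs6 v = true := slots_step fs6 0 4126 4126 (slots_zero fs6) s6c0 rfl
theorem s6c1 : allBelow (fun k => fs6 (Nat.add (Nat.succ 4126) k)) 3997 = true := by decide +kernel
theorem s6u1 : ∀ v, 1 ≤ v → v ≤ 8123 → fs6 v = true := slots_step fs6 4126 3997 8123 s6u0 s6c1 rfl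
theorem s6c2 : allBelow (fun k => fs6 (Nat.add (Nat.succ 8123) k)) 3435 = true := by decide +kernel
theorem s6u2 : ∀ v, 1 ≤ v → v ≤ 11558 → fs6 v = true := slots_step fs6 8123 3435 11558 s6u1 s6c2 rfl
theorem s6c3 : allBelow (fun k => fs6 (Nat.add (Nat.succ 11558) k)) 3526 = true := by decide +kernel
theorem s6u3 : ∀ v, 1 ≤ v → v ≤ 15084 → fs6 v = true := slots_step fs6 11558 3526 15084 s6u2 s6c3 rfl
theorem s6c4 : allBelow (fun k => fs6 (Nat.add (Nat.succ 15084) k)) 1751 = true := by decide +kernel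
theorem s6u4 : ∀ v, 1 ≤ v → v ≤ 16835 → fs6 v = true := slots_step fs6 15084 1751 16835 s6u3 s6c4 rfl
theorem s7c0 : allBelow (fun k => fs7 (Nat.add (Nat.succ 0) k)) 4134 = true := by decide +kernel
theorem s7u0 : ∀ v, 1 ≤ v → v ≤ 4134 → fs7 v = true := slots_step fs7 0 4134 4134 (slots_zero fs7) s7c0 rfl
theorem s7c1 : allBelow (fun k => fs7 (Nat.add (Nat.succ 4134) k)) 4023 = true := by decide +kernel
theorem s7u1 : ∀ v, 1 ≤ v → v ≤ 8157 → fs7 v = true := slots_step fs7 4134 4023 8157 s7u0 s7c1 rfl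
theorem s7c2 : allBelow (fun k => fs7 (Nat.add (Nat.succ 8157) k)) 3686 = true := by decide +kernel
theorem s7u2 : ∀ v, 1 ≤ v → v ≤ 11843 → fs7 v = true := slots_step fs7 8157 3686 11843 s7u1 s7c2 rfl
theorem s7c3 : allBelow (fun k => fs7 (Nat.add (Nat.succ 11843) k)) 3412 = true := by decide +kernel
theorem s7u3 : ∀ v, 1 ≤ v → v ≤ 15255 → fs7 v = true := slots_step fs7 11843 3412 15255 s7u2 s7c3 rfl
theorem s7c4 : allBelow (fun k => fs7 (Nat.add (Nat.succ 15255) k)) 1580 = true := by decide +kernel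
theorem s7u4 : ∀ v, 1 ≤ v → v ≤ 16835 → fs7 v = true := slots_step fs7 15255 1580 16835 s7u3 s7c4 rfl
theorem s8c0 : allBelow (fun k => fs8 (Nat.add (Nat.succ 0) k)) 4319 = true := by decide +kernel
theorem s8u0 : ∀ v, 1 ≤ v → v ≤ 4319 → fs8 v = true := slots_step fs8 0 4319 4319 (slots_zero fs8) s8c0 rfl
theorem s8c1 : allBelow (fun k => fs8 (Nat.add (Nat.succ 4319) k)) 4299 = true := by decide +kernel
theorem s8u1 : ∀ v, 1 ≤ v → v ≤ 8618 → fs8 v = true := slots_step fs8 4319 4299 8618 s8u0 s8c1 rfl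
theorem s8c2 : allBelow (fun k => fs8 (Nat.add (Nat.succ 8618) k)) 3575 = true := by decide +kernel
theorem s8u2 : ∀ v, 1 ≤ v → v ≤ 12193 → fs8 v = true := slots_step fs8 8618 3575 12193 s8u1 s8c2 rfl
theorem s8c3 : allBelow (fun k => fs8 (Nat.add (Nat.succ 12193) k)) 3369 = true := by decide +kernel
theorem s8u3 : ∀ v, 1 ≤ v → v ≤ 15562 → fs8 v = true := slots_step fs8 12193 3369 15562 s8u2 s8c3 rfl
theorem s8c4 : allBelow (fun k => fs8 (Nat.add (Nat.succ 15562) k)) 1273 = true := by decide +kernel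
theorem s8u4 : ∀ v, 1 ≤ v → v ≤ 16835 → fs8 v = true := slots_step fs8 15562 1273 16835 s8u3 s8c4 rfl
theorem s9c0 : allBelow (fun k => fs9 (Nat.add (Nat.succ 0) k)) 5207 = true := by decide +kernel
theorem s9u0 : ∀ v, 1 ≤ v → v ≤ 5207 → fs9 v = true := slots_step fs9 0 5207 5207 (slots_zero fs9) s9c0 rfl
theorem s9c1 : allBelow (fun k => fs9 (Nat.add (Nat.succ 5207) k)) 8077 = true := by decide +kernel
theorem s9u1 : ∀ v, 1 ≤ v → v ≤ 13284 → fs9 v = true := slots_step fs9 5207 8077 13284 s9u0 s9c1 rfl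
theorem s9c2 : allBelow (fun k => fs9 (Nat.add (Nat.succ 13284) k)) 3551 = true := by decide +kernel
theorem s9u2 : ∀ v, 1 ≤ v → v ≤ 16835 → fs9 v = true := slots_step fs9 13284 3551 16835 s9u1 s9c2 rfl
theorem gz : countBelow gl 0 = 0 := rfl
theorem gk0 : countBelow (fun k => gl (Nat.add 0 k)) 16835 = 14080 := by decide +kernel
theorem gn0 : countBelow gl 16835 = 14080 := countBelow_step gl 0 16835 16835 0 14080 14080 gz gk0 rfl rfl

end Cfsg.Agent.Lib.Helper35.Fi23Ord.U1
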